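-- helper22: a component L of a finite group and an L-invariant subgroup T: L ≤ T or [L,T] = 1.
-- Plus small tools: commuting of mutually normalizing disjoint subgroups, normalizer of a closure,
-- normalizers of nontrivial subgroups normalized by a maximal subgroup of a simple group.
import Mathlib
import Cfsg.Prelude.Def_Local
import Cfsg.Agent.Lib.Helper21.Comp
import Cfsg.Agent.Lib.Helper21.LBal
import Cfsg.Agent.Lib.Helper22.Basic

set_option autoImplicit false
set_option linter.unusedSectionVars false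
set_option linter.unusedVariables false

namespace Cfsg.Agent.Lib.Helper22.CompInv

open Cfsg Subgroup
open scoped commutatorElement
open Cfsg.Agent.Lib.Helper21
open Cfsg.Agent.Lib.Helper22

variable {G : Type*} [Group G]

/-- mutually normalizing subgroups with trivial intersection commute elementwise. -/
theorem commute_of_normalize_disjoint {A B : Subgroup G}
    (hA : A ≤ normalizer (B : Set G)) (hB : B ≤ normalizer (A : Set G)) (h : A ⊓ B = ⊥) :
    ∀ a ∈ A, ∀ b ∈ B, a * b = b * a := by
  intro a ha b hb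
  have h1 : ⁅a, b⁆ ∈ A := by
    have h1 := (Subgroup.mem_normalizer_iff.1 (hB hb) a⁻¹).1 (A.inv_mem ha)
    have : ⁅a, b⁆ = a * (b * a⁻¹ * b⁻¹) := by rw [commutatorElement_def]; group
    rw [this]
    exact A.mul_mem ha h1
  have h2 : ⁅a, b⁆ ∈ B := by
    have h2 := (Subgroup.mem_normalizer_iff.1 (hA ha) b).1 hb
    rw [commutatorElement_def]
    exact B.mul_mem h2 (B.inv_mem hb)
  have h3 : ⁅a, b⁆ ∈ A ⊓ B := Subgroup.mem_inf.2 ⟨h1, h2⟩
  rw [h, Subgroup.mem_bot] at h3
  exact commutatorElement_eq_one_iff_mul_comm.1 h3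

/-- a subgroup whose elements conjugate a set `S` into itself normalizes `closure S`. -/
theorem le_normalizer_closure (M : Subgroup G) (S : Set G)
    (h : ∀ m ∈ M, ∀ s ∈ S, m * s * m⁻¹ ∈ S) :
    M ≤ normalizer ((Subgroup.closure S : Subgroup G) : Set G) := by
  have key : ∀ m ∈ M, ∀ x ∈ Subgroup.closure S, m * x * m⁻¹ ∈ Subgroup.closure S := by
    intro m hm x hx
    have hle : Subgroup.closure S ≤ (Subgroup.closure S).comap (MulAut.conj m).toMonoidHom := by
      rw [Subgroup.closure_le]
      intro s hs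
      exact Subgroup.subset_closure (h m hm s hs)
    exact hle hx
  intro m hm
  rw [Subgroup.mem_normalizer_iff]
  intro x
  refine ⟨key m hm x, fun hx => ?_⟩
  have := key m⁻¹ (M.inv_mem hm) _ hx
  have e : m⁻¹ * (m * x * m⁻¹) * m⁻¹⁻¹ = x := by group
  rwa [e] at this

/-- In a simple group, a nontrivial subgroup `U` of a maximal subgroup `M` which is normalized by
`M` has normalizer exactly `M`. -/
theorem normalizer_eq_of_isCoatom [IsSimpleGroup G] {M : Subgroup G} (hM : IsCoatom M)
    (U : Subgroup G) (hU : U ≠ ⊥) (hUM : U ≤ M) (hn : M ≤ normalizer (U : Set G)) :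
    normalizer (U : Set G) = M := by
  by_contra hne
  have hlt : M < normalizer (U : Set G) := lt_of_le_of_ne hn (Ne.symm hne)
  have htop := hM.2 _ hlt
  have hnorm : U.Normal := Subgroup.normalizer_eq_top_iff.1 htop
  rcases hnorm.eq_bot_or_eq_top with h | h
  · exact hU h
  · apply hM.1
    rw [eq_top_iff, ← h]
    exact hUM

variable [Finite G]

/-- **A component and an invariant subgroup.** If `L` is a component of the finite group `G` and
`T` is any subgroup normalized by `L`, then `L ≤ T` or `[L, T] = 1`. -/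
theorem component_le_or_commutator_eq_bot {L T : Subgroup G} (hL : Cfsg.IsComponent L)
    (hLT : L ≤ normalizer (T : Set G)) : L ≤ T ∨ ⁅L, T⁆ = ⊥ := by
  by_cases hT : T ≤ normalizer (L : Set G)
  · rcases Comp.le_or_inf_le_centralizer hL.2 hLT with h | h
    · exact Or.inl h
    · right
      apply LBal.commutator_eq_bot_of_le_centralizer hL.2
      refine le_trans ?_ h
      rw [Subgroup.commutator_le]
      intro a ha b hb
      refine Subgroup.mem_inf.2 ⟨?_, ?_⟩
      · have h2 := (Subgroup.mem_normalizer_iff.1 (hLT ha) b).1 hb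
        rw [commutatorElement_def]
        exact T.mul_mem h2 (T.inv_mem hb)
      · have h1 := (Subgroup.mem_normalizer_iff.1 (hT hb) a⁻¹).1 (L.inv_mem ha)
        have : ⁅a, b⁆ = a * (b * a⁻¹ * b⁻¹) := by rw [commutatorElement_def]; group
        rw [this]
        exact L.mul_mem ha h1
  · left
    obtain ⟨t, ht, htL⟩ := SetLike.not_le_iff_exists.1 hT
    have hLt : Cfsg.IsComponent (L.map (MulAut.conj t).toMonoidHom) := LBal.isComponent_cj t hL
    have hne : L ≠ L.map (MulAut.conj t).toMonoidHom := by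
      intro h
      exact htL (Basic.map_conj_eq_iff_mem_normalizer.1 h.symm)
    have hcomm := Comp.components_commute L _ hL hLt hne
    have hcent := Subgroup.commutator_eq_bot_iff_le_centralizer.1 hcomm
    have hc : ∀ m ∈ L, ∀ l ∈ L, (t * l * t⁻¹) * m = m * (t * l * t⁻¹) := by
      intro m hm l hl
      exact Subgroup.mem_centralizer_iff.1 (hcent hm) (t * l * t⁻¹) ⟨l, hl, rfl⟩
    rw [← Comp.commutator_self hL.2, Subgroup.commutator_le]
    intro m hm l hl
    have hcT : l * t * l⁻¹ * t⁻¹ ∈ T := by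
      have h2 := (Subgroup.mem_normalizer_iff.1 (hLT hl) t).1 ht
      exact T.mul_mem h2 (T.inv_mem ht)
    have h2 : m * (l * t * l⁻¹ * t⁻¹) * m⁻¹ ∈ T :=
      (Subgroup.mem_normalizer_iff.1 (hLT hm) _).1 hcT
    have e1 : (t * l⁻¹ * t⁻¹) * m⁻¹ = m⁻¹ * (t * l⁻¹ * t⁻¹) :=
      hc m⁻¹ (L.inv_mem hm) l⁻¹ (L.inv_mem hl)
    have key : ⁅m, l⁆ = (m * (l * t * l⁻¹ * t⁻¹) * m⁻¹) * (l * t * l⁻¹ * t⁻¹)⁻¹ := by
      rw [commutatorElement_def]
      calc m * l * m⁻¹ * l⁻¹
          = m * l * (m⁻¹ * (t * l⁻¹ * t⁻¹)) * (t * l * t⁻¹) * l⁻¹ := by group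
        _ = m * l * ((t * l⁻¹ * t⁻¹) * m⁻¹) * (t * l * t⁻¹) * l⁻¹ := by rw [e1]
        _ = _ := by group
    rw [key]
    exact T.mul_mem h2 (T.inv_mem hcT)

end Cfsg.Agent.Lib.Helper22.CompInv
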