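import Mathlib
import Cfsg.Prelude.Def_OddOrderLocal

/-!
helper22: mini-call S1355 (M_F ≠ 1, M_F ≤ M_σ ≤ M' < M, M'/M_F nilpotent).  Two pieces.
Plan: `M_F ≤ M_σ` (`Helper57.BG14FHCore.mem_sigma_of_normal_hall`), `M_σ ≤ M'`
(`Helper9.BG10f.sigmaCore_le_commutator`), `M' < M` (solvable).  If `M_σ` is nilpotent then
`M_σ = M_F` (`Helper57.BG14FHCore.main_of`), `≠ 1` (S1354), and NILSIG.  Otherwise `U = 1`, `K ≠ 1`,
`K* ≠ 1`, `K* ≤ M_F` (S1364), `M' = M_σ` (S1365), `M_σ ∩ C(k) = K* ≤ M_F` (S1430) and NILQ.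
-/

set_option autoImplicit false

namespace Cfsg.Agent.Lib.Helper22.S55Stmt

universe u

/-- NILQ (pure).  `H, N ⊴ Γ`, `N ≤ H`, `k ^ s = 1` (`s` prime, `s ∤ |H|`) and `C_H(k) ≤ N`:
`H/N` is nilpotent.  (Thompson `Cfsg.Agent.Lib.Helper24.BG11NF.nilpotent_of_fpf_prime` in `Γ ⧸ N`
for the subgroup `H.map mk`, `x := mk k`: if `mk k` commutes with `mk h`, `h ∈ H`, then
`h⁻¹ (k h k⁻¹) ∈ N`, so some `h n`, `n ∈ N`, commutes with `k` (fixed point of the `s`-group `⟨k⟩`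
on the coset `h N`, `s ∤ |N|`; cf. `Cfsg.Agent.Lib.Helper31.SigBasic.exists_commute_in_coset`),
hence `h n ∈ H ∩ C(k) ≤ N` and `mk h = 1`.) -/
def NilQ : Prop :=
  ∀ {Γ : Type u} [Group Γ] [Finite Γ] (H N : Subgroup Γ) [N.Normal], H.Normal → N ≤ H →
  ∀ (k : Γ) (s : ℕ), s.Prime → k ^ s = 1 → ¬ s ∣ Nat.card H →
  H ⊓ Subgroup.centralizer ({k} : Set Γ) ≤ N →
  Group.IsNilpotent ↥(H.map (QuotientGroup.mk' N))

/-- NILSIG.  The image of `M'` in `M / M_σ` is nilpotent.  (`K`, `U` a standard factorisation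
(`Cfsg.Agent.S1351.result`, `Cfsg.Agent.S1352.result`), `E := K ⊔ U` a complement of `M_σ`
(`Cfsg.Agent.Lib.Helper90.BG14U.uset_of_decomp`, field `.compl`), `⁅E, E⁆` nilpotent
(`Cfsg.Agent.S1415.result`); `mk` restricted to `E.subgroupOf M` is onto `↥M ⧸ piCore`, so
`(commutator ↥M).map mk = commutator (↥M ⧸ _) = ⁅E', E'⁆.map mk` (`Subgroup.map_commutator`), the
image of a nilpotent group.) -/
def NilSig : Prop :=
  ∀ {G : Type u} [Group G] [Finite G], Cfsg.IsMinSimpleOddOrder G →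
  ∀ (M : Subgroup G), IsCoatom M →
  Group.IsNilpotent ↥((commutator ↥M).map (QuotientGroup.mk' (Cfsg.piCore (Cfsg.sigma M) ↥M)))

end Cfsg.Agent.Lib.Helper22.S55Stmt
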