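import Mathlib
import Cfsg.Prelude.Def_OddOrderLocal

/-!
helper22: CALL S1364 (K* ≤ M_F, M_F not cyclic).  Props of the pieces.

Pure theorem X (`Cfg → Concl`): `H ⊴ Γ` solvable, `k` of prime order `s ∤ |H|`, `C = C_H(k)` of
prime order `q ≠ 2`, `C ≤ H'`.  Then `H` has a normal Sylow `q`-subgroup (normal in `Γ`).
Induction on `|H|`: take `N ⊴ Γ`, `1 ≠ N ≤ H` elementary abelian `r`-group (EA).
* `C ≤ N` (so `r = q`): `k` has no fixed point on `H/N` (FPQ), Thompson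
  (`Cfsg.Agent.Lib.Helper24.BG11NF.nilpotent_of_fpf_prime`) => `H/N` nilpotent (CASE1), lift (LIFTQ).
* `C ∩ N = 1`: the configuration passes to `Γ/N` (QUOT), induction gives a normal Sylow `q`-subgroup
  `Q₀/N` of `H/N`.  `r = q`: LIFTQ.  `r ≠ q` (LIFTR): a `k`-invariant Sylow `q`-subgroup `Q` of `Q₀`
  (LR1); Hall–Higman (`Cfsg.Agent.Lib.Helper59.HHGroup.comm_centralizes`) + FPQ: `Q = C_Q(k) C_Q(N)`
  (LR2); if `C ≤ Q` then `C` centralizes `N` (LR4: else `H` centralizes `Q₀ / C_{Q₀}(N)` of order `q`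
  (LR4A) and the transfer `x ↦ x ^ n` into the centre shows `C ≰ H'` (LR4B)); so `Q` centralizes
  `N` and `Q ⊴ Γ` (LR3).
-/

set_option autoImplicit false

namespace Cfsg.Agent.Lib.Helper22.S64Stmt

universe u

/-- The configuration. -/
structure Cfg {Γ : Type u} [Group Γ] (H : Subgroup Γ) (k : Γ) (s q : ℕ) (C : Subgroup Γ) : Prop where
  normal : H.Normal
  solv : Group.IsSolvable H
  sprime : s.Prime
  ks : k ^ s = 1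
  sH : ¬ s ∣ Nat.card H
  qprime : q.Prime
  q2 : q ≠ 2
  cent : H ⊓ Subgroup.centralizer ({k} : Set Γ) = C
  cardC : Nat.card C = q
  der : C ≤ ⁅H, H⁆

/-- `H` has a Sylow `q`-subgroup normal in `Γ`. -/
def Concl {Γ : Type u} [Group Γ] (H : Subgroup Γ) (q : ℕ) : Prop :=
  ∃ Q : Subgroup Γ, Q ≤ H ∧ Q.Normal ∧ IsPGroup q Q ∧ ¬ q ∣ Q.relIndex H

/-- FPQ (pure).  `k ^ s = 1`, `s` prime, `N` a `k`-invariant subgroup with `s ∤ |N|`, and the coset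
`x N` is `k`-invariant: then it contains a fixed point of `k`.  (`⟨k⟩` acts on the coset `x N` by
conjugation, `k (x n) k⁻¹ = x (x⁻¹ k x k⁻¹) (k n k⁻¹)`; a group of order `1` or `s` acting on a set
of `|N|` elements, `s ∤ |N|`, has a fixed point: `MulAction.card_modEq_card_fixedPoints` for the
`s`-group `zpowers k` or `ZMod s`.) -/
def FPQ : Prop :=
  ∀ {Γ : Type u} [Group Γ] [Finite Γ] (k : Γ) (s : ℕ), s.Prime → k ^ s = 1 →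
  ∀ N : Subgroup Γ, (∀ n ∈ N, k * n * k⁻¹ ∈ N) → ¬ s ∣ Nat.card N →
  ∀ x : Γ, x⁻¹ * (k * x * k⁻¹) ∈ N → ∃ n ∈ N, k * (x * n) * k⁻¹ = x * n

/-- EA (pure).  A nontrivial solvable normal subgroup contains a nontrivial elementary abelian
`r`-subgroup normal in `Γ`.  (`A` := a nontrivial normal subgroup of `Γ` inside `H` of least order;
`⁅A, A⁆` is normal in `Γ`, `< A` by solvability, so `= ⊥`; `r` a prime dividing `|A|`,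
`N := {a ∈ A | a ^ r = 1}`.) -/
def EA : Prop :=
  ∀ {Γ : Type u} [Group Γ] [Finite Γ] (H : Subgroup Γ), H.Normal → Group.IsSolvable H → H ≠ ⊥ →
  ∃ (r : ℕ) (N : Subgroup Γ), r.Prime ∧ N.Normal ∧ N ≤ H ∧ N ≠ ⊥ ∧
    (∀ a ∈ N, ∀ b ∈ N, a * b = b * a) ∧ (∀ a ∈ N, a ^ r = 1)

/-- CASE1.  `C ≤ N`: `H/N` is nilpotent (Thompson in `Γ ⧸ N` with `x := mk k`: a fixed point
`mk x`, `x ∈ H`, gives by FPQ `x n ∈ H ∩ C(k) = C ≤ N`, so `mk x = 1`), hence its Sylow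
`q`-subgroup is normal, characteristic, normal in `Γ ⧸ N`. -/
def Case1 : Prop :=
  ∀ {Γ : Type u} [Group Γ] [Finite Γ] (H : Subgroup Γ) (k : Γ) (s q : ℕ) (C : Subgroup Γ),
  Cfg H k s q C → ∀ (N : Subgroup Γ) [N.Normal], N ≤ H → C ≤ N →
  Concl (H.map (QuotientGroup.mk' N)) q

/-- QUOT.  `C ∩ N = 1`: the configuration passes to `Γ ⧸ N`.  (`cent`: FPQ; `der`:
`Subgroup.map_commutator`; `cardC`: `mk` is injective on `C`.) -/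
def Quot : Prop :=
  ∀ {Γ : Type u} [Group Γ] [Finite Γ] (H : Subgroup Γ) (k : Γ) (s q : ℕ) (C : Subgroup Γ),
  Cfg H k s q C → ∀ (N : Subgroup Γ) [N.Normal], N ≤ H → N ≠ ⊥ → C ⊓ N = ⊥ →
  Cfg (H.map (QuotientGroup.mk' N)) (QuotientGroup.mk' N k) s q (C.map (QuotientGroup.mk' N)) ∧
    Nat.card (H.map (QuotientGroup.mk' N)) < Nat.card H

/-- LIFTQ (pure).  `N` a normal `q`-subgroup inside `H`: lift the conclusion from `Γ ⧸ N`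
(`Q := Q̄.comap mk`; `IsPGroup.comap_of_ker_isPGroup`, `Subgroup.relIndex_comap`). -/
def LiftQ : Prop :=
  ∀ {Γ : Type u} [Group Γ] [Finite Γ] (H : Subgroup Γ) (q : ℕ), q.Prime →
  ∀ (N : Subgroup Γ) [N.Normal], N ≤ H → IsPGroup q N →
  Concl (H.map (QuotientGroup.mk' N)) q → Concl H q

/-- LR1 (pure).  A `k`-invariant complement: `Q₀ / N` a `q`-group, `q ∤ |N|`, `s ∤ |N|`.
(The number of Sylow `q`-subgroups of `↥Q₀` divides the index `|N|` of one of them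
(`Sylow.card_dvd_index`), so is prime to `s`; the automorphism `a ↦ k a k⁻¹` of `↥Q₀`, of order
`1` or `s`, fixes one of them (`Sylow.pointwiseMulAction`, fixed point count).) -/
def LR1 : Prop :=
  ∀ {Γ : Type u} [Group Γ] [Finite Γ] (k : Γ) (s q : ℕ), s.Prime → q.Prime → k ^ s = 1 →
  ∀ (N Q₀ : Subgroup Γ), N ≤ Q₀ → (∀ a ∈ N, ∀ g ∈ Q₀, g * a * g⁻¹ ∈ N) →
  (∀ a ∈ Q₀, k * a * k⁻¹ ∈ Q₀) → ¬ q ∣ Nat.card N → ¬ s ∣ Nat.card N →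
  (∃ e : ℕ, Nat.card Q₀ = q ^ e * Nat.card N) →
  ∃ Q : Subgroup Γ, Q ≤ Q₀ ∧ IsPGroup q Q ∧ N ⊔ Q = Q₀ ∧ ∀ a ∈ Q, k * a * k⁻¹ ∈ Q

/-- LR2.  Hall–Higman: `Q = C_Q(k) C_Q(N)`.  (`Helper59.HHGroup.comm_centralizes` with `V := N`,
`x := k`, `p := r`, `q := q`, `r := s`: `hfix` from `H ∩ C(k) = C`, `C ∩ N = 1`; `r ≠ s` as
`r ∣ |N| ∣ |H|`; `q ≠ s` as `q ∣ |H|`.  Then FPQ with `N := Q ⊓ centralizer N`, `x := a`.) -/
def LR2 : Prop :=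
  ∀ {Γ : Type u} [Group Γ] [Finite Γ] (H : Subgroup Γ) (k : Γ) (s q : ℕ) (C : Subgroup Γ),
  Cfg H k s q C → ∀ (r : ℕ) (N : Subgroup Γ) [N.Normal], r.Prime → r ≠ q → N ≤ H → N ≠ ⊥ →
  (∀ a ∈ N, ∀ b ∈ N, a * b = b * a) → (∀ a ∈ N, a ^ r = 1) → C ⊓ N = ⊥ →
  ∀ Q : Subgroup Γ, Q ≤ H → IsPGroup q Q → (∀ a ∈ Q, k * a * k⁻¹ ∈ Q) →
  ∀ a ∈ Q, ∃ n ∈ Q ⊓ Subgroup.centralizer (N : Set Γ), a * n ∈ C

/-- LR3 (pure).  `Q₀ = N Q` normal, `Q` a `q`-group centralizing `N`, `q ∤ |N|`: `Q` is normal.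
(`g a g⁻¹ = n a'` with `n ∈ N`, `a' ∈ Q` commuting; a `q`-power kills it, so `n = 1`.) -/
def LR3 : Prop :=
  ∀ {Γ : Type u} [Group Γ] [Finite Γ] (q : ℕ), q.Prime → ∀ (N Q₀ Q : Subgroup Γ), Q₀.Normal →
  ¬ q ∣ Nat.card N → IsPGroup q Q → N ⊔ Q = Q₀ → Q ≤ Subgroup.centralizer (N : Set Γ) → Q.Normal

/-- LR4A.  If `C` does not centralize `N`: with `Y = C_{Q₀}(N)`, `Q₀ = Y C` and `H` centralizes
`Q₀ / Y`.  (`H₀ := {h ∈ H | ∀ c ∈ C, h c h⁻¹ c⁻¹ ∈ Y}` is a `k`-invariant subgroup (`k` centralizes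
`C`, normalizes `Y`); for `h ∈ H`, `h` and `k h k⁻¹` act in the same way on `Q₀ / Y = ⟨c Y⟩`
(`h c h⁻¹ ∈ c ^ j Y`, and `k` fixes `c`), so `h⁻¹ (k h k⁻¹) ∈ H₀`; FPQ: `h n ∈ H ∩ C(k) = C ≤ H₀`.) -/
def LR4a : Prop :=
  ∀ {Γ : Type u} [Group Γ] [Finite Γ] (H : Subgroup Γ) (k : Γ) (s q : ℕ) (C : Subgroup Γ),
  Cfg H k s q C → ∀ (N Q₀ Q : Subgroup Γ) [N.Normal], Q₀.Normal → N ≤ Q₀ → Q₀ ≤ H →
  (∀ a ∈ N, ∀ b ∈ N, a * b = b * a) → N ⊔ Q = Q₀ → C ≤ Q →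
  (∀ a ∈ Q, ∃ n ∈ Q ⊓ Subgroup.centralizer (N : Set Γ), a * n ∈ C) →
  C ⊓ Subgroup.centralizer (N : Set Γ) = ⊥ →
  (Q₀ ⊓ Subgroup.centralizer (N : Set Γ)) ⊔ C = Q₀ ∧
    ∀ h ∈ H, ∀ c ∈ C, h * c * h⁻¹ * c⁻¹ ∈ Q₀ ⊓ Subgroup.centralizer (N : Set Γ)

/-- LR4B (pure, transfer).  `Y ⊴ Γ`, `C` of prime order `q` central in `H` modulo `Y`,
`C ∩ Y = 1`, `q ∤ |H : Y C|`: then `C ≰ H'`.  (In `X := ↥H ⧸ Y.subgroupOf H` the image `c̄` of a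
generator of `C` is central of order `q`; `MonoidHom.transferCenterPow : X →* center X`,
`x ↦ x ^ (center X).index`, kills the commutator subgroup; `(center X).index` divides
`(zpowers c̄).index = |H : Y C|`, prime to `q`, so `c̄ ^ index ≠ 1`.) -/
def LR4b : Prop :=
  ∀ {Γ : Type u} [Group Γ] [Finite Γ] (H Y C : Subgroup Γ) (q : ℕ), q.Prime → Y.Normal → Y ≤ H →
  C ≤ H → Nat.card C = q → C ⊓ Y = ⊥ → (∀ h ∈ H, ∀ c ∈ C, h * c * h⁻¹ * c⁻¹ ∈ Y) →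
  ¬ q ∣ (Y ⊔ C).relIndex H → ¬ C ≤ ⁅H, H⁆

/-- LR4.  `C ≤ Q` centralizes `N`.  (Else `C ⊓ centralizer N = ⊥` (`|C|` prime); LR4A, LR4B with
`Y := Q₀ ⊓ centralizer N` contradict `Cfg.der`.) -/
def LR4 : Prop :=
  ∀ {Γ : Type u} [Group Γ] [Finite Γ] (H : Subgroup Γ) (k : Γ) (s q : ℕ) (C : Subgroup Γ),
  Cfg H k s q C → ∀ (N Q₀ Q : Subgroup Γ) [N.Normal], Q₀.Normal → N ≤ Q₀ → Q₀ ≤ H →
  (∀ a ∈ N, ∀ b ∈ N, a * b = b * a) → ¬ q ∣ Q₀.relIndex H → N ⊔ Q = Q₀ → C ≤ Q →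
  (∀ a ∈ Q, ∃ n ∈ Q ⊓ Subgroup.centralizer (N : Set Γ), a * n ∈ C) →
  C ≤ Subgroup.centralizer (N : Set Γ)

/-- LIFTR.  `N` an elementary abelian normal `r`-subgroup, `r ≠ q`, `C ∩ N = 1`: lift the
conclusion from `Γ ⧸ N`.  (`Q₀ := Q̄.comap mk`; `|Q₀| = q ^ e |N|`; LR1 gives `Q`; LR2; if
`Q ⊓ C = ⊥` then `Q ≤ centralizer N` directly (`a n ∈ C ∩ Q = 1`), else `C ≤ Q`, LR4, and again
`Q ≤ centralizer N`; LR3: `Q` normal; `Q.relIndex H = |N| * Q₀.relIndex H`.) -/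
def LiftR : Prop :=
  ∀ {Γ : Type u} [Group Γ] [Finite Γ] (H : Subgroup Γ) (k : Γ) (s q : ℕ) (C : Subgroup Γ),
  Cfg H k s q C → ∀ (r : ℕ) (N : Subgroup Γ) [N.Normal], r.Prime → r ≠ q → N ≤ H → N ≠ ⊥ →
  (∀ a ∈ N, ∀ b ∈ N, a * b = b * a) → (∀ a ∈ N, a ^ r = 1) →
  Concl (H.map (QuotientGroup.mk' N)) q → Concl H q

/-- NCYC (pure).  `F` cyclic, `k`-invariant, `k ^ s = 1`, `c ∈ F` of order `q ≠ s` fixed by `k`:
`k` centralizes every `q`-element of `F`.  (`z := x⁻¹ k x k⁻¹ ∈ F` is a `q`-element; if `z ≠ 1`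
a power `z ^ j = (x ^ j)⁻¹ k x ^ j k⁻¹` has order `q`, so lies in `zpowers c` (a cyclic group has
at most `q` solutions of `y ^ q = 1`: `IsCyclic.card_pow_eq_one_le`), hence is fixed by `k`; then
`k ^ i y k ^ (-i) = y w ^ i` for `y = x ^ j`, `w = z ^ j`, and `i = s` gives `w ^ s = 1`, `w = 1`.) -/
def NCyc : Prop :=
  ∀ {Γ : Type u} [Group Γ] [Finite Γ] (F : Subgroup Γ), IsCyclic F → ∀ (k : Γ) (s q : ℕ),
  s.Prime → q.Prime → s ≠ q → k ^ s = 1 → (∀ a ∈ F, k * a * k⁻¹ ∈ F) →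
  ∀ c ∈ F, orderOf c = q → k * c = c * k →
  ∀ x ∈ F, (∃ e : ℕ, x ^ q ^ e = 1) → k * x = x * k

/-- WCFG.  `U = ⊥`: the configuration in `Γ := ↥M`, `H := M_σ`, `k ∈ K` of prime order,
`C := K* = M_σ ∩ C(K)`.  (`|K*|` prime: `Cfsg.Agent.S1373.result`; `M_σ ∩ C(k) = K*`:
`Cfsg.Agent.S1430.result` (1); `K* ≤ (M_σ)'`: `Cfsg.Agent.S1426.result` with `E := K`
(`IsComplIn K (sigmaCore M) M` from `hKU.compl` and `U = ⊥`); `s ∤ |M_σ|`: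
`Helper22.BG1210.coprime_card_sigmaCore` / `Helper9.BG11b`; `M` solvable of odd order.) -/
def WCfg : Prop :=
  ∀ {G : Type u} [Group G] [Finite G], Cfsg.IsMinSimpleOddOrder G →
  ∀ (M K U : Subgroup G), IsCoatom M → Cfsg.IsSigmaDecomposition M K U → K ≠ ⊥ → U = ⊥ →
  ∃ (k : ↥M) (s q : ℕ), q.Prime ∧
    q = Nat.card ↥(Cfsg.sigmaCore M ⊓ Subgroup.centralizer (K : Set G)) ∧
    Cfg ((Cfsg.sigmaCore M).subgroupOf M) k s q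
      ((Cfsg.sigmaCore M ⊓ Subgroup.centralizer (K : Set G)).subgroupOf M)

/-- WFH.  A Sylow `q`-subgroup of `M_σ` normal in `M` lies in `M_F` and contains every
`q`-subgroup of `M_σ`.  (`Q'` is normal, nilpotent, and `q ∤ |M : M_σ|` as `q ∈ σ(M)`
(`M_σ` is a Hall `σ(M)`-subgroup, `Cfsg.Agent.S1350`), so `Q' ≤ fittingHall ↥M`.) -/
def WFH : Prop :=
  ∀ {G : Type u} [Group G] [Finite G], Cfsg.IsMinSimpleOddOrder G →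
  ∀ (M : Subgroup G), IsCoatom M → ∀ (q : ℕ) [Fact q.Prime], q ∣ Nat.card (Cfsg.sigmaCore M) →
  Concl ((Cfsg.sigmaCore M).subgroupOf M) q →
  ∃ S : Sylow q ↥(Cfsg.sigmaCore M),
    (S : Subgroup ↥(Cfsg.sigmaCore M)).map (Cfsg.sigmaCore M).subtype ≤ Cfsg.fittingHallOf M ∧
    ∀ Y : Subgroup G, Y ≤ Cfsg.sigmaCore M → IsPGroup q Y →
      Y ≤ (S : Subgroup ↥(Cfsg.sigmaCore M)).map (Cfsg.sigmaCore M).subtype

/-- WNC.  `M_F` is not cyclic.  (Else, `k ∈ K` of prime order `s`, `c ∈ K*` of order `q`: by NCYC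
`k` centralizes the `q`-elements of `M_F`, so `S ≤ M_σ ∩ C(k) = K*` (`Cfsg.Agent.S1430.result`),
against `Cfsg.Agent.S1431.result` (3).) -/
def WNC : Prop :=
  ∀ {G : Type u} [Group G] [Finite G], Cfsg.IsMinSimpleOddOrder G →
  ∀ (M K U : Subgroup G), IsCoatom M → Cfsg.IsSigmaDecomposition M K U → K ≠ ⊥ →
  (Cfsg.sigmaCore M ⊓ Subgroup.centralizer (K : Set G)) ≤ Cfsg.fittingHallOf M →
  ∀ (q : ℕ) [Fact q.Prime], q ∣ Nat.card ↥(Cfsg.sigmaCore M ⊓ Subgroup.centralizer (K : Set G)) →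
  ∀ S : Sylow q ↥(Cfsg.sigmaCore M),
    (S : Subgroup ↥(Cfsg.sigmaCore M)).map (Cfsg.sigmaCore M).subtype ≤ Cfsg.fittingHallOf M →
    ¬ IsCyclic ↥(Cfsg.fittingHallOf M)

end Cfsg.Agent.Lib.Helper22.S64Stmt
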