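import Mathlib
import Cfsg.Agent.Lib.Helper22.S64Stmt

/-!
helper22: S1364 call, the induction (theorem X) from the pieces EA, CASE1, QUOT, LIFTQ, LIFTR.
-/

set_option autoImplicit false

namespace Cfsg.Agent.Lib.Helper22.S64X

open Cfsg.Agent.Lib.Helper22.S64Stmt

universe u

theorem le_or_inf_bot {Γ : Type u} [Group Γ] [Finite Γ] (C N : Subgroup Γ) (q : ℕ) (hq : q.Prime)
    (hC : Nat.card C = q) : C ≤ N ∨ C ⊓ N = ⊥ := by
  have hdvd : Nat.card ↥(C ⊓ N) ∣ q := by
    rw [← hC]; exact Subgroup.card_dvd_of_le inf_le_left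
  rcases (Nat.dvd_prime hq).mp hdvd with h1 | h1
  · right; exact Subgroup.card_eq_one.mp h1
  · left
    have h2 : C ⊓ N = C := Subgroup.eq_of_le_of_card_ge inf_le_left (by rw [h1, hC])
    rw [← h2]; exact inf_le_right

theorem X (hEA : EA.{u}) (hC1 : Case1.{u}) (hQ : Quot.{u}) (hLQ : LiftQ.{u}) (hLR : LiftR.{u}) :
    ∀ (n : ℕ) (Γ : Type u) [Group Γ] [Finite Γ] (H : Subgroup Γ) (k : Γ) (s q : ℕ)
      (C : Subgroup Γ), Nat.card H = n → Cfg H k s q C → Concl H q := by
  intro n
  induction n using Nat.strong_induction_on with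
  | _ n ih =>
    intro Γ _ _ H k s q C hn hcfg
    have hqp := hcfg.qprime
    have hCH : C ≤ H := by rw [← hcfg.cent]; exact inf_le_left
    have hC1' : C ≠ ⊥ := by
      intro h
      have h2 := hcfg.cardC
      rw [h, Subgroup.card_bot] at h2
      exact hqp.one_lt.ne' h2.symm
    have hH1 : H ≠ ⊥ := by
      intro h
      apply hC1'
      rw [h] at hCH
      exact le_bot_iff.mp hCH
    obtain ⟨r, N, hr, hNn, hNH, hN1, hNc, hNr⟩ := hEA H hcfg.normal hcfg.solv hH1
    haveI := hNn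
    have hNp : IsPGroup r N := by
      intro g
      refine ⟨1, ?_⟩
      apply Subtype.ext
      rw [pow_one, Subgroup.coe_pow, Subgroup.coe_one]
      exact hNr g g.2
    rcases le_or_inf_bot C N q hqp hcfg.cardC with hCN | hCN
    · have hrq : r = q := by
        obtain ⟨⟨c, hc⟩, hc1⟩ := Subgroup.ne_bot_iff_exists_ne_one.mp hC1'
        have hc1' : c ≠ 1 := fun h => hc1 (Subtype.ext h)
        have hcr : c ^ r = 1 := hNr c (hCN hc)
        have h1 : orderOf c ∣ r := orderOf_dvd_of_pow_eq_one hcr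
        have h2 : orderOf c = r := by
          rcases (Nat.dvd_prime hr).mp h1 with h | h
          · exact absurd (orderOf_eq_one_iff.mp h) hc1'
          · exact h
        have h3 : orderOf c ∣ Nat.card C := by
          have := orderOf_dvd_natCard (⟨c, hc⟩ : C)
          rwa [← Subgroup.orderOf_coe] at this
        rw [h2, hcfg.cardC] at h3
        exact (Nat.prime_dvd_prime_iff_eq hr hqp).mp h3
      rw [hrq] at hNp
      exact hLQ H q hqp N hNH hNp (hC1 H k s q C hcfg N hNH hCN)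
    · obtain ⟨hcfg', hlt⟩ := hQ H k s q C hcfg N hNH hN1 hCN
      have hconcl' : Concl (H.map (QuotientGroup.mk' N)) q :=
        ih _ (by rw [← hn]; exact hlt) (Γ ⧸ N) (H.map (QuotientGroup.mk' N)) _ s q _ rfl hcfg'
      by_cases hrq : r = q
      · rw [hrq] at hNp
        exact hLQ H q hqp N hNH hNp hconcl'
      · exact hLR H k s q C hcfg r N hr hrq hNH hN1 hNc hNr hconcl'

theorem main (hEA : EA.{u}) (hC1 : Case1.{u}) (hQ : Quot.{u}) (hLQ : LiftQ.{u}) (hLR : LiftR.{u})
    {Γ : Type u} [Group Γ] [Finite Γ] (H : Subgroup Γ) (k : Γ) (s q : ℕ) (C : Subgroup Γ)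
    (h : Cfg H k s q C) : Concl H q :=
  X hEA hC1 hQ hLQ hLR (Nat.card H) Γ H k s q C rfl h

end Cfsg.Agent.Lib.Helper22.S64X
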